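import Groth.Agent.AgPol.K117.Defs
import Groth.Agent.CurvesB.HZero
import Mathlib.AlgebraicGeometry.ZariskisMainTheorem

/-!
# A normalised morphism over a field is a closed immersion

Sections `s i` of an invertible module with `m + 1` rational points mapping to the coordinate points are linearly
independent; if `dim H^0 = m + 1` and the module is very ample, the morphism given by them is a closed immersion.
-/

set_option autoImplicit false
universe u
open CategoryTheory CategoryTheory.Limits AlgebraicGeometry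

namespace K817.FieldClosed

open K117.Ag K390.PnSec Groth.Agent.Fdesc.LocGen Groth.Agent.CurvesB.HZero

/-- A proper immersion to `P^m_T` over `T` is a closed immersion. -/
theorem closed_of_immersion {X T : Scheme.{u}} {m : ℕ} (r : X ⟶ PZ.{u} m) (q : X ⟶ T) [IsProper q]
    (h : IsImmersion (liftP r q)) : IsClosedImmersion (liftP r q) := by
  rw [IsClosedImmersion.iff_isProper_and_mono]
  refine ⟨?_, inferInstance⟩
  have h1 : IsProper (liftP r q ≫ CohB1.ProjSpaceOver.toBase m T) := by
    rw [liftP_toBase]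
    infer_instance
  exact IsProper.of_comp (liftP r q) (CohB1.ProjSpaceOver.toBase m T)

section

variable {k : Type u} [Field k] {X : Scheme.{u}} [X.Over (Spec (CommRingCat.of k))] {m : ℕ}
  {r : X ⟶ PZ.{u} m} {L : X.Modules} {s : Fin (m + 1) → Γ(L, ⊤)}

/-- The sections are linearly independent. -/
theorem eq_zero_of_sum (hr : GivenBy r L s) (P : Fin (m + 1) → (Spec (CommRingCat.of k) ⟶ X))
    (hstd : ∀ i, IsPt (P i ≫ r) (Pi.single i 1)) (c : Fin (m + 1) → k)
    (h : ∑ j, gl k X (c j) • s j = 0) : c = 0 := by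
  funext i
  obtain ⟨e, he⟩ := (hr.comp (P i)).exists_iso (hstd i)
  have h1 := congrArg (fun t => e.hom.app ⊤ (pullTop (P i) t)) h
  have h2 : pullTop (P i) (∑ j, gl k X (c j) • s j) = ∑ j, ((P i).appTop (gl k X (c j))) • pullTop (P i) (s j) :=
    pullTop_sum_smul (P i) _ _
  have h3 : pullTop (P i) (0 : Γ(L, ⊤)) = 0 := map_zero (pullTopHom (P i) L)
  simp only at h1
  rw [h2, h3] at h1
  have h4 := app_sum_smul e.hom (fun j => (P i).appTop (gl k X (c j))) (fun j => pullTop (P i) (s j))
  rw [h4, map_zero] at h1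
  simp only [he] at h1
  rw [Finset.sum_eq_single i] at h1
  · rw [Pi.single_eq_same] at h1
    have h5 : (P i).appTop (gl k X (c i)) = 0 := by
      have h6 : (P i).appTop (gl k X (c i)) * (1 : Γ(Spec (CommRingCat.of k), ⊤)) = 0 := h1
      rwa [mul_one] at h6
    let ρ : k →+* Γ(Spec (CommRingCat.of k), ⊤) := ((P i).appTop).hom.comp (gl k X)
    exact (map_eq_zero ρ).mp h5
  · intro j _ hj
    rw [Pi.single_eq_of_ne hj]
    exact mul_zero ((P i).appTop (gl k X (c j)) : Γ(Spec (CommRingCat.of k), ⊤))
  · intro hi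
    exact absurd (Finset.mem_univ i) hi

/-- The sections span. -/
theorem exists_coeff (hr : GivenBy r L s) (P : Fin (m + 1) → (Spec (CommRingCat.of k) ⟶ X))
    (hstd : ∀ i, IsPt (P i ≫ r) (Pi.single i 1)) (hdim : Module.finrank k (Coh.HH X L 0) = m + 1)
    (t : Γ(L, ⊤)) : ∃ c : Fin (m + 1) → k, t = ∑ j, gl k X (c j) • s j := by
  let _ := moduleΓ k L
  have e := (equivLin k L).finrank_eq
  rw [hdim] at e
  have hli : LinearIndependent k s := by
    rw [Fintype.linearIndependent_iff]
    intro c hc i
    exact congrFun (eq_zero_of_sum hr P hstd c hc) i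
  have hsp := hli.span_eq_top_of_card_eq_finrank (by rw [← e, Fintype.card_fin])
  have ht : t ∈ Submodule.span k (Set.range s) := by rw [hsp]; trivial
  rw [Submodule.mem_span_range_iff_exists_fun] at ht
  obtain ⟨c, hc⟩ := ht
  exact ⟨c, hc.symm⟩

theorem isClosedImmersion (hr : GivenBy r L s) [IsProper (X ↘ Spec (CommRingCat.of k))]
    (P : Fin (m + 1) → (Spec (CommRingCat.of k) ⟶ X))
    (hstd : ∀ i, IsPt (P i ≫ r) (Pi.single i 1)) (hdim : Module.finrank k (Coh.HH X L 0) = m + 1)
    (hva : RelAmple.IsRelVeryAmplePn (X ↘ Spec (CommRingCat.of k)) L) :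
    IsClosedImmersion (liftP r (X ↘ Spec (CommRingCat.of k))) := by
  refine closed_of_immersion _ _ ?_
  obtain ⟨n, r₀, s₀, hr₀, him⟩ := (isRelVeryAmplePn_iff _ _).mp hva
  choose c hc using fun j => exists_coeff hr P hstd hdim (s₀ j)
  exact isImmersion_liftP_of_span (X ↘ Spec (CommRingCat.of k)) hr hr₀
    (fun j i => (Scheme.ΓSpecIso (CommRingCat.of k)).inv.hom (c j i)) hc him

end

end K817.FieldClosed
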