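import Groth.Agent.Ega3B.FibreSpread
import Groth.Agent.Etbase.FpqcDescent
import Mathlib.FieldTheory.IsAlgClosed.AlgebraicClosure

/-!
# Closed immersions and geometric fibres

A morphism of proper schemes over `S` is a closed immersion if its base changes to the geometric points of `S` are
closed immersions.
-/

set_option autoImplicit false
universe u
open CategoryTheory CategoryTheory.Limits AlgebraicGeometry

namespace K817.GeomClosed

variable {X Y S : Scheme.{u}}

lemma quasiCompact_specMap {A B : CommRingCat.{u}} (φ : A ⟶ B) : QuasiCompact (Spec.map φ) := inferInstance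

/-- **Geometric fibre criterion** for closed immersions between proper schemes. -/
theorem isClosedImmersion (f : X ⟶ Y) (g : X ⟶ S) (h : Y ⟶ S) (w : f ≫ h = g) [IsProper g] [IsProper h]
    (H : ∀ (Ω : Type u) [Field Ω] [IsAlgClosed Ω] (t : Spec (CommRingCat.of Ω) ⟶ S) (X' Y' : Scheme.{u})
      (f' : X' ⟶ Y') (p : X' ⟶ X) (q : Y' ⟶ Y) (b : Y' ⟶ Spec (CommRingCat.of Ω)),
      IsPullback f' p q f → IsPullback q b h t → IsClosedImmersion f') : IsClosedImmersion f := by
  have key : ∀ s : S, ∃ U : S.Opens, s ∈ U ∧ IsClosedImmersion (f ∣_ (h ⁻¹ᵁ U)) := by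
    intro s
    refine Groth.Agent.Ega3B.FibreSpread.exists_closedImmersion f g h w s ?_
    let Ω := AlgebraicClosure (S.residueField s)
    let a : Spec (CommRingCat.of Ω) ⟶ Spec (S.residueField s) :=
      Spec.map (CommRingCat.ofHom (algebraMap (S.residueField s) Ω))
    let t : Spec (CommRingCat.of Ω) ⟶ S := a ≫ S.fromSpecResidueField s
    have h1 := Groth.Agent.Ega3B.FibreSpread.isPullback_fiberMapOver f g h w s
    let c : pullback (h.fiberToSpecResidueField s) a ⟶ h.fiber s := pullback.fst _ _
    have ha1 : Surjective a := ⟨fun x => ⟨IsLocalRing.closedPoint Ω, Subsingleton.elim _ _⟩⟩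
    have ha2 : Flat a := inferInstance
    have ha3 : QuasiCompact a := quasiCompact_specMap _
    have hc1 : Surjective c := MorphismProperty.pullback_fst _ _ ha1
    have hc2 : Flat c := MorphismProperty.pullback_fst _ _ ha2
    have hc3 : QuasiCompact c := MorphismProperty.pullback_fst _ _ ha3
    let f' := pullback.snd (CohIII.fiberMapOver f g h w s) c
    have hp : IsPullback (pullback.fst (CohIII.fiberMapOver f g h w s) c) f' (CohIII.fiberMapOver f g h w s) c :=
      IsPullback.of_hasPullback _ _
    refine Groth.Agent.Etbase.FpqcDescent.descendsAlong_isClosedImmersion.{u}.of_isPullback hp.flip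
      ⟨⟨hc1, hc2⟩, hc3⟩ ?_
    refine H Ω t _ _ f' (pullback.fst (CohIII.fiberMapOver f g h w s) c ≫ g.fiberι s) (c ≫ h.fiberι s)
      (pullback.snd _ _) ?_ ?_
    · exact (hp.flip.paste_vert h1)
    · exact (IsPullback.of_hasPullback (h.fiberToSpecResidueField s) a).flip.paste_vert
        (IsPullback.of_hasPullback h (S.fromSpecResidueField s)).flip |>.flip
  choose U hU hf using key
  have hcov : iSup (fun s => h ⁻¹ᵁ (U s)) = ⊤ := by
    rw [eq_top_iff]
    intro y _
    exact TopologicalSpace.Opens.mem_iSup.mpr ⟨h y, hU (h y)⟩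
  exact (IsZariskiLocalAtTarget.iff_of_iSup_eq_top (P := @IsClosedImmersion) _ hcov).mpr hf

end K817.GeomClosed
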