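import Groth.Agent.AgPol.K533.FamCore
import Groth.Agent.AgPol.K515.FrameGeom
import Groth.Agent.AgPol.K817.GeomClosed
import Groth.Agent.AgPol.K817.FieldClosed

/-!
# CLOSED: a normalised morphism is a closed immersion

`K117.Ag.Node.Closed`, from very ampleness of `M ^ 3` (`VAStmt`) and `h⁰(c ^ 3) = 6 ^ g d` (`RankStmt`) over
algebraically closed fields.
-/

set_option autoImplicit false
universe u

open CategoryTheory Limits MonoidalCategory CartesianMonoidalCategory AlgebraicGeometry
open scoped MonObj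

namespace K817.Closed

open Groth.Agent Groth.Agent.Grpsch.PicGrp Groth.Agent.Fdesc.LocGen K117.Ag K390.PnSec Groth.Agent.Dix.ProjProper
open Groth.Agent.Fga.RigGrp K732.PicZero K732.Prim K732.Dual K732.BC K533

section ok

variable {S : Scheme.{u}} {g d n : ℕ}

/-- The core of an admissible family is admissible. -/
theorem ok_of_isCoreOf {T : Over S} {x : AgPol.Fam T g} {z : Core T g} (hx : AgPol.Fam.ok g d n T x)
    (h : IsCoreOf x z) : Core.ok g d n T z := by
  let _ := x.grp
  let _ := x.grpt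
  obtain ⟨ξ, h1, h2, h3, rfl⟩ := h
  obtain ⟨hA, hc, hct, hD, hpol, hdeg, hlev⟩ := hx
  refine ⟨hA, hc, ?_, ?_, hlev⟩
  · have := hpol.1
    exact FamCore.rig h2 x.lam
  · exact ⟨x.Xt, x.grpt, hct, x.φ, ξ, x.lam, hD, h1, h2, h3, hpol, hdeg, rfl⟩

/-- Admissible core families are stable under base change. -/
theorem ok_pull {T T' : Over S} (k : T' ⟶ T) {z : Core T g} (hz : Core.ok g d n T z) :
    Core.ok g d n T' (z.pull k) := by
  obtain ⟨x, h1, h2⟩ := FamCore.exists_fam T z hz
  exact ok_of_isCoreOf (FamCore.pull_ok k x h2) (FamCore.pull_core k x z h2 h1)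

end ok

/-- Points of projective space are stable under base change. -/
theorem isPt_comp {T T' : Scheme.{u}} {m : ℕ} {r : T ⟶ PZ.{u} m} {v : Fin (m + 1) → Γ(T, ⊤)} (h : IsPt r v)
    (f : T' ⟶ T) : IsPt (f ≫ r) (fun i => f.appTop (v i)) := by
  have h1 := GivenBy.comp h f
  refine K515.FrameGeom.isPt_of_gen (e := pullTop f (one (X := T) ⊤)) ((isGen_one (X := T) ⊤).pullSec f) ?_
  have h2 : (fun i => @pullTop T' T f (Coh.structureModule T) (v i)) =
      fun i => (f.appTop (v i)) • pullTop f (one (X := T) ⊤) := by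
    funext i
    have h3 : (v i : Γ(Coh.structureModule T, ⊤)) = v i • one (X := T) ⊤ := ofFun_eq_smul (v i)
    exact (congrArg (@pullTop T' T f (Coh.structureModule T)) h3).trans (pullSec_smul f (v i) _)
  exact h2 ▸ h1

theorem isStd_comp {T T' : Scheme.{u}} {m : ℕ} {r : T ⟶ PZ.{u} m} {j : Fin (m + 2)} (h : IsStd j r)
    (f : T' ⟶ T) : IsStd j (f ≫ r) := by
  have h1 := isPt_comp h f
  have h2 : (fun i => f.appTop (stdv Γ(T, ⊤) m j i)) = stdv Γ(T', ⊤) m j := by
    funext i
    exact K515.FrameGeom.map_stdv f.appTop.hom m j i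
  rw [h2] at h1
  exact h1

/-- **VA**: the cube of an ample module on an abelian variety is very ample. -/
def VAStmt : Prop :=
  ∀ (k : Type u) [Field k] [IsAlgClosed k] (A : Over (Spec (CommRingCat.of k))) [GrpObj A] [IsProper A.hom]
    [GeometricallyIntegral A.hom] (M L : A.left.Modules), CohB1.IsAmple M → Nonempty (L ≅ CohB1.tensorPow M 3) →
      RelAmple.IsRelVeryAmplePn A.hom L

/-- **R1**: the rank of the cube of a polarisation class. -/
def RankStmt : Prop :=
  ∀ (k : Type u) [Field k] [IsAlgClosed k] (B : Over (Spec (CommRingCat.of k))) [GrpObj B] (g d : ℕ),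
    AgPol.IsAbSch B g → ∀ c : Pic B.left, IsPolCl B d c →
      (∀ (M : B.left.Modules) (hM : PicF.IsInvertible M), mk M hM = c → CohB1.IsAmple M) ∧
      ∀ (L : B.left.Modules) (hL : PicF.IsInvertible L), mk L hL = c ^ 3 →
      (@Module.finrank k (Coh.HH B.left L 0) _ _ (@Coh.moduleOver k _ B.left ⟨B.hom⟩ L 0)) = 6 ^ g * d

/-- The field case. -/
theorem field (hVA : VAStmt.{u}) (hR : RankStmt.{u}) {k : Type u} [Field k] [IsAlgClosed k]
    (B : Over (Spec (CommRingCat.of k))) [GrpObj B] {g d m : ℕ} (hm : m + 1 = 6 ^ g * d) (hB : AgPol.IsAbSch B g)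
    {c : Pic B.left} (hc : IsPolCl B d c) (r : B.left ⟶ PZ.{u} m) (hr : pull r (o1 m) = c ^ 3)
    (P : Fin (m + 1) → (Spec (CommRingCat.of k) ⟶ B.left)) (hstd : ∀ i : Fin (m + 1), IsStd i.castSucc (P i ≫ r)) :
    IsClosedImmersion (liftP r B.hom) := by
  have i1 := hB.smooth
  have i2 := hB.proper
  have i3 := hB.geomConnected
  have i4 : GeometricallyIntegral B.hom := K814.AbBasic.geometricallyIntegral B
  let _ : B.left.Over (Spec (CommRingCat.of k)) := ⟨B.hom⟩
  have i5 : IsProper (B.left ↘ Spec (CommRingCat.of k)) := inferInstanceAs (IsProper B.hom)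
  let L : B.left.Modules := (Scheme.Modules.pullback r).obj (O1 m Z.{u})
  have hL : PicF.IsInvertible L := isInvertible_pullback r (isInvertible_O1 m Z.{u})
  have hLc : mk L hL = c ^ 3 := by
    rw [← hr, o1, pull_mk r (isInvertible_O1 m Z.{u})]
  obtain ⟨hA, hrk⟩ := hR k B g d hB c hc
  obtain ⟨M, hM, hMc⟩ := exists_mk c
  have hMa := hA M hM hMc.symm
  have he : Nonempty (L ≅ CohB1.tensorPow M 3) := by
    rw [hMc, ← mk_tensorPow hM 3] at hLc
    exact (mk_eq_iff hL _).mp hLc
  have hva := hVA k B M L hMa he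
  refine FieldClosed.isClosedImmersion (k := k) (X := B.left) (r := r) (L := L) (GivenBy.refl r) P
    (fun i => ?_) ?_ hva
  · have h1 := hstd i
    have h2 : stdv Γ(Spec (CommRingCat.of k), ⊤) m i.castSucc = Pi.single i 1 := by
      have h3 : ((i.castSucc : Fin (m + 2)) : ℕ) < m + 1 := i.2
      rw [stdv, dif_pos h3]
      rfl
    rw [IsStd, h2] at h1
    exact h1
  · rw [hrk L hL hLc, hm]

/-- The geometric fibres. -/
theorem fibre (hVA : VAStmt.{u}) (hR : RankStmt.{u}) {g d n m : ℕ} (hm : m + 1 = 6 ^ g * d) {S : Scheme.{u}}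
    (T : Over S) (x : Core T g) (hx : Core.ok g d n T x)
    (I : Fin (m + 2) → (Fin (2 * g) → Fin n)) (r : x.X.left ⟶ PZ.{u} m) (hr : NormEmb x.X x.c x.σ I r)
    {Ω : Type u} [Field Ω] [IsAlgClosed Ω] (t : Spec (CommRingCat.of Ω) ⟶ T.left) :
    IsClosedImmersion (liftP (pullback.fst x.X.hom t ≫ r) (pullback.snd x.X.hom t)) := by
  have hok := ok_pull (Over.homMk t rfl : Over.mk (t ≫ T.hom) ⟶ T) hx
  let B : Over (Spec (CommRingCat.of Ω)) := Red.bc t x.X
  let c : Pic B.left := pull (pullback.fst x.X.hom t) x.c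
  have hB : AgPol.IsAbSch B g := hok.ab
  have hc : IsPolCl B d c := hok.pol
  let P : Fin (m + 1) → (Spec (CommRingCat.of Ω) ⟶ B.left) := fun i =>
    pullback.lift (t ≫ (tp x.X x.σ (I i.castSucc)).left) (𝟙 _) (by
      rw [Category.assoc, Over.w (tp x.X x.σ (I i.castSucc)), Category.id_comp]
      exact Category.comp_id t)
  refine field hVA hR B hm hB hc (pullback.fst x.X.hom t ≫ r) ?_ P ?_
  · obtain ⟨N, hN⟩ := hr.cls
    rw [pull_comp, hN, map_mul, map_pow, ← pull_comp, pullback.condition, pull_comp,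
      pic_spec_local Ω (pull t N), map_one, mul_one]
  · intro i
    have h1 := isStd_comp (hr.pts i.castSucc) t
    have h2 : P i ≫ pullback.fst x.X.hom t ≫ r = t ≫ (tp x.X x.σ (I i.castSucc)).left ≫ r := by
      rw [← Category.assoc, pullback.lift_fst, Category.assoc]
    rw [h2]
    exact h1

/-- **CLOSED** -/
theorem main (hVA : VAStmt.{u}) (hR : RankStmt.{u}) {g d n m : ℕ} (hm : m + 1 = 6 ^ g * d) :
    Node.Closed.{u} g d n m := by
  intro S T x _ hx I r hr
  have i2 : IsProper x.X.hom := hx.ab.proper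
  refine GeomClosed.isClosedImmersion (liftP r x.X.hom) x.X.hom (CohB1.ProjSpaceOver.toBase m T.left)
    (liftP_toBase _ _) fun Ω _ _ t X' Y' f' p q b h1 h2 => ?_
  have h3 := h2.paste_horiz (isPullback_toZ m T.left)
  have h4 : t ≫ specULiftZIsTerminal.from T.left = specULiftZIsTerminal.from (Spec (CommRingCat.of Ω)) :=
    specULiftZIsTerminal.hom_ext _ _
  rw [h4] at h3
  let eY := h3.isoIsPullback _ _ (isPullback_toZ m (Spec (CommRingCat.of Ω)))
  have h5 := h1.flip.paste_vert h2
  rw [liftP_toBase] at h5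
  let eX := h5.isoIsPullback _ _ (IsPullback.of_hasPullback x.X.hom t)
  have h6 : f' ≫ eY.hom = eX.hom ≫ liftP (pullback.fst x.X.hom t ≫ r) (pullback.snd x.X.hom t) := by
    refine hom_ext_over ?_ ?_
    · rw [Category.assoc, Category.assoc, liftP_toZ, IsPullback.isoIsPullback_hom_fst,
        IsPullback.isoIsPullback_hom_fst_assoc, ← Category.assoc, h1.w, Category.assoc, liftP_toZ]
    · rw [Category.assoc, Category.assoc, liftP_toBase, IsPullback.isoIsPullback_hom_snd,
        IsPullback.isoIsPullback_hom_snd]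
  have h7 : f' = eX.hom ≫ liftP (pullback.fst x.X.hom t ≫ r) (pullback.snd x.X.hom t) ≫ eY.inv := by
    rw [← Category.assoc, ← h6, Category.assoc, eY.hom_inv_id, Category.comp_id]
  have h8 := fibre hVA hR hm T x hx I r hr t
  rw [h7]
  infer_instance

end K817.Closed
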