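import Groth.Agent.AgPol.K817.ClosedMain
import Groth.Agent.AgPol.K586.GGRel
import Groth.Agent.S14161

/-!
# CLOSED without hypotheses
-/

set_option autoImplicit false
universe u

open CategoryTheory Limits MonoidalCategory CartesianMonoidalCategory AlgebraicGeometry
open scoped MonObj

namespace K817.Closed

open Groth.Agent.Grpsch.PicGrp K117.Ag

/-- **VA** -/
theorem vaMain : VAStmt.{u} :=
  vaStmt fun _ _ _ _ _ _ _ _ hM => K586.GGRel.exists_closedImmersion hM le_rfl

/-- S14161 as used here. -/
theorem h14161 : K515.PolFinMain.Stmt14161.{u} := @Groth.Agent.S14161.result.{u}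

/-- **CLOSED** -/
theorem closedMain {g d n m : ℕ} (hm : m + 1 = 6 ^ g * d) : Node.Closed.{u} g d n m := main' vaMain h14161 hm

end K817.Closed
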