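import Groth.Agent.AgPol.K817.Closed
import Groth.Agent.AgPol.K515.RankPol
import Groth.Agent.Curves.K333.FibreVA

/-!
# CLOSED: discharging the hypotheses
-/

set_option autoImplicit false
universe u

open CategoryTheory Limits MonoidalCategory CartesianMonoidalCategory AlgebraicGeometry
open scoped MonObj

namespace K817.Closed

open Groth.Agent.Grpsch.PicGrp K117.Ag

/-- R1 from S14161. -/
theorem rankStmt (h14161 : K515.PolFinMain.Stmt14161.{u}) : RankStmt.{u} := by
  intro k _ _ B _ g d hB c hc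
  refine ⟨fun M hM h => (K515.RankPol.rank_one h14161 B g d hB hc M hM h).1, fun L hL h => ?_⟩
  exact (K515.RankPol.rank h14161 B g d hB hc 3 (by norm_num) L hL h).2

/-- VA from closed immersions. -/
theorem vaStmt (h : ∀ (k : Type u) [Field k] [IsAlgClosed k] (A : Over (Spec (CommRingCat.of k))) [GrpObj A]
    [IsProper A.hom] [GeometricallyIntegral A.hom] (M : A.left.Modules), CohB1.IsAmple M →
      ∃ (m : ℕ) (i : A.left ⟶ CohB1.ProjSpace m k), IsClosedImmersion i ∧ i ≫ CohB1.ProjSpace.toSpec m k = A.hom ∧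
        Nonempty ((Scheme.Modules.pullback i).obj (Twist.twistProjSpace m k 1) ≅ CohB1.tensorPow M 3)) :
    VAStmt.{u} := by
  intro k _ _ A _ _ _ M L hM ⟨e⟩
  obtain ⟨m, i, h1, h2, ⟨e'⟩⟩ := h k A M hM
  exact K333.FibreVA.isRelVeryAmplePn_of_closedImmersion A.hom L i h1 h2 ⟨e' ≪≫ e.symm⟩

/-- **CLOSED**, from S14161 and very ampleness. -/
theorem main' (hVA : VAStmt.{u}) (h14161 : K515.PolFinMain.Stmt14161.{u}) {g d n m : ℕ} (hm : m + 1 = 6 ^ g * d) :
    Node.Closed.{u} g d n m := main hVA (rankStmt h14161) hm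

end K817.Closed
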