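import Groth.Agent.AgPol.K817.NhdCore
import Groth.Agent.AgPol.K817.ClosedMain
import Groth.Agent.AgPol.K272.NormBc
import Groth.Agent.AgPol.K652.QPGen
import Groth.Agent.AgPol.K652.QPFrame
import Groth.Agent.AgPol.K814.RelGG
import Groth.Agent.AbVar.K519.DualBase
import Groth.Agent.Ega3B.ChiFib

/-!
# NHD: a frame at a geometric point extends to a neighbourhood
-/

set_option autoImplicit false
universe u

open CategoryTheory Limits MonoidalCategory CartesianMonoidalCategory AlgebraicGeometry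
open scoped MonObj

namespace K817.Nhd

open K117.Ag K390.PnSec Groth.Agent.Fdesc.LocGen K652.QPRf K817.NhdCore K732.BC
open Groth.Agent.Grpsch.PicGrp hiding ev

variable {S X Y T T' W : Scheme.{u}}

/-- Finitely many classes are trivial on a common affine neighbourhood. -/
theorem exists_triv {J : Type*} [Finite J] (c : J → Pic S) (U : S.Opens) {s : S} (hs : s ∈ U) :
    ∃ V : S.Opens, s ∈ V ∧ V ≤ U ∧ IsAffineOpen V ∧ ∀ j, pull V.ι (c j) = 1 := by
  choose W hW1 hW2 using fun j => K519.DualBase.exists_open (c j) s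
  have hop : IsOpen (⋂ j, (W j : Set S)) := isOpen_iInter_of_finite fun j => (W j).isOpen
  obtain ⟨_, ⟨V, hV, rfl⟩, hsV, hVU⟩ := S.isBasis_affineOpens.exists_subset_of_mem_open
    (show s ∈ ((U : Set S) ∩ ⋂ j, (W j : Set S)) from ⟨hs, Set.mem_iInter.mpr hW1⟩) (U.isOpen.inter hop)
  refine ⟨V, hsV, fun x hx => (hVU hx).1, hV, fun j => ?_⟩
  have h1 : V ≤ W j := fun x hx => Set.mem_iInter.mp (hVU hx).2 j
  have h2 : Scheme.Opens.ι V = S.homOfLE h1 ≫ (W j).ι := by simp
  rw [h2, pull_comp, hW2 j, map_one]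

/-- Coordinates transport along isomorphisms. -/
theorem coords_iso (q : Y ⟶ T) {N N' : Y.Modules} (φ : N ≅ N') {h : ℕ} {e : Fin h → Γ(N, ⊤)} {e' : Fin h → Γ(N', ⊤)}
    (he : ∀ l, φ.hom.app ⊤ (e l) = e' l) (hc : Coords q e') : Coords q e := by
  intro s
  have hinj : Function.Injective (φ.hom.app ⊤) := by
    intro a b hab
    have h5 : φ.hom ≫ φ.inv = 𝟙 _ := φ.hom_inv_id
    have h6 := congrArg (φ.inv.app ⊤) hab
    have h7 : ∀ a, φ.inv.app ⊤ (φ.hom.app ⊤ a) = a := fun a => congr(($(h5).app ⊤) a)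
    rwa [h7, h7] at h6
  have key : ∀ c : Fin h → Γ(T, ⊤), φ.hom.app ⊤ (∑ l, (q.appTop (c l)) • e l) = ∑ l, (q.appTop (c l)) • e' l := by
    intro c
    rw [app_sum_smul]
    exact Finset.sum_congr rfl fun l _ => by rw [he]
  obtain ⟨c, hc1, hc2⟩ := hc (φ.hom.app ⊤ s)
  refine ⟨c, hinj (hc1.trans (key c).symm), fun c' hc' => hc2 c' ?_⟩
  change s = _ at hc'
  rw [hc', key]

/-- The number of coordinates over a field. -/
theorem size_eq {k : Type u} [Field k] {X : Scheme.{u}} [X.Over (Spec (CommRingCat.of k))] {L : X.Modules} {h : ℕ}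
    {e : Fin h → Γ(L, ⊤)} (hc : Coords (X ↘ Spec (CommRingCat.of k)) e) :
    Module.finrank k (Coh.HH X L 0) = h := by
  let _ := Groth.Agent.CurvesB.HZero.moduleΓ k L
  rw [(Groth.Agent.CurvesB.HZero.equivLin k L).finrank_eq]
  let i : k → Γ(Spec (CommRingCat.of k), ⊤) := (Scheme.ΓSpecIso (CommRingCat.of k)).inv.hom
  have hi : Function.Bijective i := ConcreteCategory.bijective_of_isIso (Scheme.ΓSpecIso (CommRingCat.of k)).inv
  have hsm : ∀ (a : k) (s : Γ(L, ⊤)), a • s = ((X ↘ Spec (CommRingCat.of k)).appTop (i a)) • s := fun a s => rfl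
  let f : (Fin h → k) →ₗ[k] Γ(L, ⊤) := Fintype.linearCombination k e
  have hf : ∀ c, f c = ∑ l, ((X ↘ Spec (CommRingCat.of k)).appTop (i (c l))) • e l := by
    intro c
    rw [Fintype.linearCombination_apply]
    rfl
  have hbij : Function.Bijective f := by
    constructor
    · intro a b hab
      rw [hf, hf] at hab
      obtain ⟨c, -, hc2⟩ := hc (∑ l, ((X ↘ Spec (CommRingCat.of k)).appTop (i (a l))) • e l)
      have h1 := hc2 (fun l => i (a l)) rfl
      have h2 := hc2 (fun l => i (b l)) hab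
      funext l
      exact hi.1 (congrFun (h1.trans h2.symm) l)
    · intro s
      obtain ⟨c, hc1, -⟩ := hc s
      choose b hb using fun l => hi.2 (c l)
      refine ⟨b, ?_⟩
      rw [hf, hc1]
      exact Finset.sum_congr rfl fun l _ => by rw [hb]
  rw [← (LinearEquiv.ofBijective f hbij).finrank_eq, Module.finrank_fin_fun]

/-- Polarisation classes are ample on geometric fibres. -/
theorem fa (hR : K817.Closed.RankStmt.{u}) {S : Scheme.{u}} {g d n : ℕ} (T : Over S) (x : Core T g)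
    (hx : Core.ok g d n T x) : K814.GamBase.FA x.X.hom x.c := by
  intro Ω _ _ τ X' a p H
  have hok := K817.Closed.ok_pull (Over.homMk τ rfl : Over.mk (τ ≫ T.hom) ⟶ T) hx
  let B : Over (Spec (CommRingCat.of Ω)) := Red.bc τ x.X
  have hc : IsPolCl B d (pull (pullback.fst x.X.hom τ) x.c) := hok.pol
  obtain ⟨M, hM, hMc⟩ := exists_mk (pull (pullback.fst x.X.hom τ) x.c)
  have h1 : CohB1.IsAmple M := (hR Ω B g d hok.ab _ hc).1 M hM hMc.symm
  have h2 := Groth.Agent.Sga5.AmpleFib.isAmple_pullback H.isoPullback.hom h1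
  refine ⟨_, h2, ?_⟩
  have h3 : pull a x.c = pull H.isoPullback.hom (pull (pullback.fst x.X.hom τ) x.c) := by
    rw [← pull_comp, H.isoPullback_hom_fst]
  rw [h3, hMc, pull_mk]

/-- The torsion points of a base change. -/
theorem tp_pull {S : Scheme.{u}} {g n : ℕ} {T T' : Over S} (k : T' ⟶ T) (x : Core T g)
    (a : Fin (2 * g) → Fin n) : (tp (x.pull k).X (x.pull k).σ a).left ≫ pullback.fst x.X.hom k.left =
      k.left ≫ (tp x.X x.σ a).left := by
  have h1 : tp (x.pull k).X (x.pull k).σ a = secBc k.left (tp x.X x.σ a) := K272.Fr.tp_bc k.left x.X x.σ a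
  rw [h1]
  exact K272.Fr.secBc_left_fst _ _

/-- Extension to a neighbourhood, in terms of a frame of sections. -/
theorem extend {B : Scheme.{u}} (π : X ⟶ B) [IsProper π] {M : X.Modules} (hM : PicF.IsInvertible M) {m : ℕ}
    {U : B.Opens} {e : Fin (m + 1) → Γ(M, π ⁻¹ᵁ U)} (he : Frame π M U e) (z : Fin (m + 2) → (B ⟶ X))
    (hz : ∀ j, z j ≫ π = 𝟙 B) {Ω : Type u} [Field Ω] (t : Spec (CommRingCat.of Ω) ⟶ B) (htU : Set.range t ⊆ U)
    (r₀ : pullback π t ⟶ PZ.{u} m) (hr₀ : pull r₀ (o1 m) = pull (pullback.fst π t) (mk M hM))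
    (P₀ : Fin (m + 2) → (Spec (CommRingCat.of Ω) ⟶ pullback π t))
    (hP₀1 : ∀ j, P₀ j ≫ pullback.fst π t = t ≫ z j) (hP₀' : ∀ j, P₀ j ≫ pullback.snd π t = 𝟙 _)
    (hstd : ∀ j, IsStd j (P₀ j ≫ r₀)) :
    ∃ U' : B.Opens, Set.range t ⊆ U' ∧ ∃ r : pullback π U'.ι ⟶ PZ.{u} m,
      pull r (o1 m) = pull (pullback.fst π U'.ι) (mk M hM) ∧
      ∀ j (P' : (U' : Scheme.{u}) ⟶ pullback π U'.ι), P' ≫ pullback.fst π U'.ι = U'.ι ≫ z j →
        P' ≫ pullback.snd π U'.ι = 𝟙 _ → IsStd j (P' ≫ r) := by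
  let s₁ : B := t (IsLocalRing.closedPoint Ω)
  have hsU : s₁ ∈ U := htU ⟨_, rfl⟩
  have hαU : ⊤ ≤ t ⁻¹ᵁ U := fun y _ => htU ⟨y, rfl⟩
  have hfst : ⊤ ≤ (pullback.fst π t) ⁻¹ᵁ (π ⁻¹ᵁ U) := by
    intro y _
    change π (pullback.fst π t y) ∈ U
    rw [← Scheme.Hom.comp_apply, pullback.condition, Scheme.Hom.comp_apply]
    exact htU ⟨_, rfl⟩
  obtain ⟨V, hsV, hVU, hV, htriv⟩ := exists_triv (fun j => pull (z j) (mk M hM)) U hsU
  have htV : Set.range t ⊆ Set.range V.ι := by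
    rintro _ ⟨y, rfl⟩
    have hy : y = IsLocalRing.closedPoint Ω := Subsingleton.elim _ _
    rw [hy, Scheme.Opens.range_ι]
    exact hsV
  let t' : Spec (CommRingCat.of Ω) ⟶ (V : Scheme.{u}) := IsOpenImmersion.lift V.ι t htV
  have ht' : t' ≫ V.ι = t := IsOpenImmersion.lift_fac _ _ _
  let fY := pullback.fst π V.ι
  let qY := pullback.snd π V.ι
  have hfY : fY ≫ π = qY ≫ V.ι := pullback.condition
  have hYU : ⊤ ≤ fY ⁻¹ᵁ (π ⁻¹ᵁ U) := by
    intro y _
    change π (fY y) ∈ U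
    rw [← Scheme.Hom.comp_apply, hfY, Scheme.Hom.comp_apply]
    exact hVU (qY y).2
  have hN := isInvertible_pullback fY hM
  let P : Fin (m + 2) → ((V : Scheme.{u}) ⟶ pullback π V.ι) := fun j =>
    pullback.lift (V.ι ≫ z j) (𝟙 _) (by rw [Category.assoc, hz, Category.comp_id, Category.id_comp])
  have hP : ∀ j, P j ≫ qY = 𝟙 _ := fun j => pullback.lift_snd _ _ _
  have hPf : ∀ j, P j ≫ fY = V.ι ≫ z j := fun j => pullback.lift_fst _ _ _
  have hε : ∀ j, ∃ ε : Γ((Scheme.Modules.pullback (P j)).obj ((Scheme.Modules.pullback fY).obj M), ⊤), IsGen ε := by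
    intro j
    refine K652.QPGen.exists_gen (P j) hN ?_
    rw [← pull_mk fY hM, ← pull_comp, hPf, pull_comp]
    exact htriv j
  choose ε hε using hε
  let f₀ : pullback π t ⟶ pullback π V.ι :=
    pullback.lift (pullback.fst π t) (pullback.snd π t ≫ t') (by
      rw [Category.assoc, ht', pullback.condition])
  have hf₀ : f₀ ≫ fY = pullback.fst π t := pullback.lift_fst _ _ _
  have hf₀' : f₀ ≫ qY = pullback.snd π t ≫ t' := pullback.lift_snd _ _ _
  have sq : IsPullback f₀ (pullback.snd π t) qY t' := by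
    refine IsPullback.of_right ?_ hf₀' (IsPullback.of_hasPullback π V.ι)
    rw [hf₀, ht']
    exact IsPullback.of_hasPullback _ _
  have hc : Coords (pullback.snd π t) (fun l => pullTop f₀ (ps fY (e l) hYU)) := by
    have h2 : ⊤ ≤ (f₀ ≫ fY) ⁻¹ᵁ (π ⁻¹ᵁ U) := by rw [hf₀]; exact hfst
    refine coords_iso _ ((Scheme.Modules.pullbackComp f₀ fY).app M) (fun l => ps_comp fY hYU f₀ (e l) h2) ?_
    refine he (f₀ ≫ fY) (pullback.snd π t) t ?_ hαU h2
    rw [hf₀]
    exact IsPullback.of_hasPullback _ _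
  -- the morphism at the point
  have hiso : Nonempty ((Scheme.Modules.pullback r₀).obj (O1 m Z.{u}) ≅
      (Scheme.Modules.pullback f₀).obj ((Scheme.Modules.pullback fY).obj M)) := by
    rw [← mk_eq_iff (isInvertible_pullback r₀ (isInvertible_O1 m Z.{u})) (isInvertible_pullback f₀ hN),
      ← pull_mk r₀ (isInvertible_O1 m Z.{u}), ← pull_mk f₀ hN, ← pull_mk fY hM, ← pull_comp, hf₀]
    exact hr₀
  obtain ⟨τ⟩ := hiso
  have hgr := (GivenBy.refl r₀).of_iso τ
  have hP₀ : ∀ j, P₀ j ≫ f₀ = t' ≫ P j := by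
    intro j
    refine pullback.hom_ext ?_ ?_
    · rw [Category.assoc, Category.assoc]
      change P₀ j ≫ f₀ ≫ fY = t' ≫ P j ≫ fY
      rw [hf₀, hPf, hP₀1, ← Category.assoc, ht']
    · rw [Category.assoc, Category.assoc]
      change P₀ j ≫ f₀ ≫ qY = t' ≫ P j ≫ qY
      rw [hf₀', hP, Category.comp_id, ← Category.assoc, hP₀', Category.id_comp]
  have i5 : IsProper qY := inferInstanceAs (IsProper (pullback.snd π V.ι))
  obtain ⟨V₁, hV₁, key⟩ := exists_nhd qY hN (fun l => ps fY (e l) hYU) P hP ε hε t' f₀ (pullback.snd π t) sq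
    hc r₀ _ hgr P₀ hP₀ hP₀' hstd
  -- the result
  refine ⟨V.ι ''ᵁ V₁, ?_, ?_⟩
  · rintro _ ⟨y, rfl⟩
    exact ⟨t' y, hV₁ ⟨y, rfl⟩, congr($(ht') y)⟩
  · generalize hU' : V.ι ''ᵁ V₁ = U'
    have hle : Set.range U'.ι ⊆ Set.range V.ι := by
      rw [Scheme.Opens.range_ι, Scheme.Opens.range_ι, ← hU']
      exact V.ι_image_le V₁
    let α : (U' : Scheme.{u}) ⟶ (V : Scheme.{u}) := IsOpenImmersion.lift V.ι U'.ι hle
    have hα : α ≫ V.ι = U'.ι := IsOpenImmersion.lift_fac _ _ _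
    let f' : pullback π U'.ι ⟶ pullback π V.ι :=
      pullback.lift (pullback.fst π U'.ι) (pullback.snd π U'.ι ≫ α) (by
        rw [Category.assoc, hα, pullback.condition])
    have hf' : f' ≫ fY = pullback.fst π U'.ι := pullback.lift_fst _ _ _
    have hf'' : f' ≫ qY = pullback.snd π U'.ι ≫ α := pullback.lift_snd _ _ _
    have hαV : ⊤ ≤ α ⁻¹ᵁ V₁ := by
      intro y _
      have hy : U'.ι y ∈ V.ι ''ᵁ V₁ := by rw [hU']; exact y.2
      obtain ⟨v, hv, hvy⟩ := hy
      have h2 : V.ι (α y) = V.ι v := by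
        rw [← Scheme.Hom.comp_apply, hα]
        exact hvy.symm
      have h3 : α y = v := V.ι.isOpenEmbedding.injective h2
      change α y ∈ V₁
      rw [h3]
      exact hv
    obtain ⟨r, hr1, hr2⟩ := key α f' (pullback.snd π U'.ι) hf'' hαV
    refine ⟨r, ?_, fun j P' h2 h3 => hr2 j P' ?_⟩
    · rw [hr1, ← pull_mk fY hM, ← pull_comp, hf']
    · refine pullback.hom_ext ?_ ?_
      · rw [Category.assoc, Category.assoc]
        change _ ≫ f' ≫ fY = α ≫ P j ≫ fY
        rw [hf', hPf, h2, ← Category.assoc, hα]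
      · rw [Category.assoc, Category.assoc]
        change _ ≫ f' ≫ qY = α ≫ P j ≫ qY
        rw [hf'', hP, Category.comp_id, ← Category.assoc, h3, Category.id_comp]

/-- **NHD** -/
theorem main' (hR : K817.Closed.RankStmt.{u}) {g d n m : ℕ} (hm : m + 1 = 6 ^ g * d) : Node.Nhd.{u} g d n m := by
  intro S T x hLN hx I Ω _ _ t hfr
  have i0 : IsLocallyNoetherian T.left := hLN
  have i1 := hx.ab.smooth
  have i2 := hx.ab.proper
  have i3 := hx.ab.geomConnected
  have i4 : GeometricallyIntegral x.X.hom := K814.AbBasic.geometricallyIntegral x.X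
  obtain ⟨r₀, hr₀⟩ := hfr
  obtain ⟨L, hL, hLc⟩ := exists_mk x.c
  let M : x.X.left.Modules := CohB1.tensorPow L 3
  have hM : PicF.IsInvertible M := isInvertible_tensorPow hL 3
  have hMc : mk M hM = x.c ^ 3 := by
    rw [hLc]
    exact mk_tensorPow hL 3
  let s₁ : T.left := t (IsLocalRing.closedPoint Ω)
  have hFA : K814.GamBase.FA x.X.hom (mk M hM) := by
    rw [hMc]
    exact K814.RelGG.FA_pow (fa hR T x hx) three_pos
  have h1 : Subsingleton (CohIII.fiberH x.X.hom M s₁ 1) := by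
    rw [K814.GamFib.subsingleton_fiberH_iff x.X.hom hM]
    exact K814.RankPush.fiberRank_eq_zero hM hFA s₁ 1 one_pos
  obtain ⟨U, h, e, hsU, hU, he⟩ := K652.QPFrame.exists_frame x.X.hom M
    (K524.Kun.isQCoh_of_isInvertible hM) (Groth.Agent.Ega3B.ChiFib.isFP_of_isInvertible hM)
    (Groth.Agent.Grpsch.CubeClosed.isFlatOver_of_isInvertible x.X.hom hM) s₁ h1
  -- the point
  have htU : Set.range t ⊆ U := by
    rintro _ ⟨y, rfl⟩
    have hy : y = IsLocalRing.closedPoint Ω := Subsingleton.elim _ _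
    rw [hy]
    exact hsU
  have hαU : ⊤ ≤ t ⁻¹ᵁ U := fun y _ => htU ⟨y, rfl⟩
  let k : Over.mk (t ≫ T.hom) ⟶ T := Over.homMk t rfl
  have hok : Core.ok g d n _ (x.pull k) := K817.Closed.ok_pull k hx
  let B : Over (Spec (CommRingCat.of Ω)) := Red.bc t x.X
  let _ : B.left.Over (Spec (CommRingCat.of Ω)) := ⟨B.hom⟩
  -- the number of sections
  have hfst : ⊤ ≤ (pullback.fst x.X.hom t) ⁻¹ᵁ (x.X.hom ⁻¹ᵁ U) := by
    intro y _
    change x.X.hom (pullback.fst x.X.hom t y) ∈ U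
    rw [← Scheme.Hom.comp_apply, pullback.condition, Scheme.Hom.comp_apply]
    exact htU ⟨_, rfl⟩
  have hco := he (pullback.fst x.X.hom t) (pullback.snd x.X.hom t) t (IsPullback.of_hasPullback _ _) hαU hfst
  have hcls : pull (pullback.fst x.X.hom t) (mk M hM) = (pull (pullback.fst x.X.hom t) x.c) ^ 3 := by
    rw [hMc, map_pow]
  have hrk : h = m + 1 := by
    have h2 := size_eq (k := Ω) (X := B.left) hco
    obtain ⟨-, h3⟩ := hR Ω B g d hok.ab (pull (pullback.fst x.X.hom t) x.c) hok.pol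
    have h5 : mk ((Scheme.Modules.pullback (pullback.fst x.X.hom t)).obj M)
        (isInvertible_pullback (pullback.fst x.X.hom t) hM) = (pull (pullback.fst x.X.hom t) x.c) ^ 3 := by
      rw [← pull_mk (pullback.fst x.X.hom t) hM, hcls]
    have h4 := h3 ((Scheme.Modules.pullback (pullback.fst x.X.hom t)).obj M)
      (isInvertible_pullback (pullback.fst x.X.hom t) hM) h5
    rw [hm, ← h4]
    exact h2.symm
  subst hrk
  have hcls₀ : pull (X := pullback x.X.hom t) r₀ (o1 m) = pull (pullback.fst x.X.hom t) (mk M hM) := by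
    obtain ⟨Nn, hNn⟩ := hr₀.cls
    have h2 : Nn = 1 := pic_spec_local Ω Nn
    rw [h2, map_one, mul_one] at hNn
    rw [hcls]
    exact hNn
  obtain ⟨U', h2, r, h3, h4⟩ := extend x.X.hom hM he (fun j => (tp x.X x.σ (I j)).left)
    (fun j => Over.w (tp x.X x.σ (I j))) t htU r₀ hcls₀ (fun j => (tp (x.pull k).X (x.pull k).σ (I j)).left)
    (fun j => tp_pull k x (I j)) (fun j => Over.w (tp (x.pull k).X (x.pull k).σ (I j))) hr₀.pts
  refine ⟨U', h2, r, ⟨1, ?_⟩, fun j => h4 j (tp (x.pull (resH T U')).X (x.pull (resH T U')).σ (I j)).left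
    (tp_pull (resH T U') x (I j)) (Over.w (tp (x.pull (resH T U')).X (x.pull (resH T U')).σ (I j)))⟩
  rw [map_one, mul_one]
  refine h3.trans ?_
  rw [hMc, map_pow]
  rfl

/-- **NHD**, from S14161. -/
theorem main (h14161 : K515.PolFinMain.Stmt14161.{u}) {g d n m : ℕ} (hm : m + 1 = 6 ^ g * d) :
    Node.Nhd.{u} g d n m := main' (K817.Closed.rankStmt h14161) hm

end K817.Nhd
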