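import Groth.Agent.AgPol.K117.Defs

/-!
# The algebra of normalised frames

`A` is the `(m + 2) × (m + 1)` matrix of values of `m + 1` sections at `m + 2` points.  `cf A i` are the coefficients of a
combination of the sections with values a multiple of the `i`-th standard vector at the first `m + 1` points and the same
value (for all `i`) at the last point.
-/

set_option autoImplicit false

open Matrix

namespace K817.NhdAlg

open K117.Ag

variable {R R' : Type*} [CommRing R] [CommRing R'] {m : ℕ} (A : Matrix (Fin (m + 2)) (Fin (m + 1)) R)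

/-- The first `m + 1` rows. -/
def top : Matrix (Fin (m + 1)) (Fin (m + 1)) R := A.submatrix Fin.castSucc id

/-- The values at the last point of the combinations given by the adjugate matrix. -/
def bb (i : Fin (m + 1)) : R := ∑ l, A (Fin.last _) l * (top A).adjugate l i

/-- The coefficients. -/
def cf (i l : Fin (m + 1)) : R := (∏ k ∈ Finset.univ.erase i, bb A k) * (top A).adjugate l i

/-- The discriminant. -/
def dd : R := (top A).det * ∏ k, bb A k

theorem val_castSucc (i j : Fin (m + 1)) : ∑ l, cf A i l * A j.castSucc l =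
    (∏ k ∈ Finset.univ.erase i, bb A k) * (if j = i then (top A).det else 0) := by
  have h1 := congrFun (congrFun (Matrix.mul_adjugate (top A)) j) i
  rw [Matrix.mul_apply, Matrix.smul_apply, Matrix.one_apply] at h1
  have h2 : ∑ l, cf A i l * A j.castSucc l =
      (∏ k ∈ Finset.univ.erase i, bb A k) * ∑ l, top A j l * (top A).adjugate l i := by
    rw [Finset.mul_sum]
    refine Finset.sum_congr rfl fun l _ => ?_
    rw [cf]
    change _ = _ * (A j.castSucc l * _)
    ring
  rw [h2, h1, smul_eq_mul, mul_ite, mul_one, mul_zero]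

theorem val_last (i : Fin (m + 1)) : ∑ l, cf A i l * A (Fin.last _) l = ∏ k, bb A k := by
  have h2 : ∑ l, cf A i l * A (Fin.last _) l = (∏ k ∈ Finset.univ.erase i, bb A k) * bb A i := by
    rw [bb, Finset.mul_sum]
    refine Finset.sum_congr rfl fun l _ => ?_
    rw [cf]
    ring
  rw [h2, Finset.prod_erase_mul _ _ (Finset.mem_univ i)]

section map

variable (f : R →+* R')

theorem top_map : top (A.map f) = (top A).map f := rfl

theorem adj_map (i l : Fin (m + 1)) : (top (A.map f)).adjugate l i = f ((top A).adjugate l i) := by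
  have h := congrFun (congrFun (RingHom.map_adjugate f (top A)) l) i
  exact h.symm

theorem bb_map (i : Fin (m + 1)) : bb (A.map f) i = f (bb A i) := by
  rw [bb, bb, map_sum]
  refine Finset.sum_congr rfl fun l _ => ?_
  rw [adj_map, map_mul]
  rfl

theorem cf_map (i l : Fin (m + 1)) : cf (A.map f) i l = f (cf A i l) := by
  rw [cf, cf, map_mul, map_prod, adj_map]
  congr 1
  exact Finset.prod_congr rfl fun k _ => bb_map A f k

theorem dd_map : dd (A.map f) = f (dd A) := by
  rw [dd, dd, map_mul, map_prod, top_map]
  congr 1
  · exact (RingHom.map_det f (top A)).symm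
  · exact Finset.prod_congr rfl fun k _ => bb_map A f k

end map

/-- At a point with a normalised frame `g`. -/
theorem point (g : Fin (m + 1) → Fin (m + 1) → R) (u : Fin (m + 2) → R) (hu : ∀ j, IsUnit (u j))
    (h : ∀ j i, stdv R m j i = (∑ l, g i l * A j l) * u j) :
    IsUnit (dd A) ∧ ∀ i, ∃ w : R, IsUnit w ∧ ∀ l, cf A i l = w * g i l := by
  -- the inverse matrix
  let G : Matrix (Fin (m + 1)) (Fin (m + 1)) R := Matrix.of fun l i => g i l * u i.castSucc
  have hval : ∀ j i : Fin (m + 1), (∑ l, g i l * A j.castSucc l) * u j.castSucc = if j = i then 1 else 0 := by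
    intro j i
    rw [← h]
    have h1 : ((j.castSucc : Fin (m + 2)) : ℕ) < m + 1 := j.2
    rw [stdv, dif_pos h1]
    change (Pi.single j (1 : R) : Fin (m + 1) → R) i = _
    rw [Pi.single_apply]
    split_ifs with h2 h3 h3
    · rfl
    · exact absurd h2.symm h3
    · exact absurd h3.symm h2
    · rfl
  have hlast : ∀ i : Fin (m + 1), (∑ l, g i l * A (Fin.last _) l) * u (Fin.last _) = 1 := by
    intro i
    rw [← h]
    have h1 : ¬ ((Fin.last (m + 1) : Fin (m + 2)) : ℕ) < m + 1 := by simp
    rw [stdv, dif_neg h1]
  have hG : top A * G = 1 := by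
    ext j i
    rw [Matrix.mul_apply, Matrix.one_apply]
    have h1 : ∑ l, top A j l * G l i = (∑ l, g i l * A j.castSucc l) * u i.castSucc := by
      rw [Finset.sum_mul]
      refine Finset.sum_congr rfl fun l _ => ?_
      change A j.castSucc l * (g i l * u i.castSucc) = _
      ring
    rw [h1]
    by_cases hji : j = i
    · subst hji
      exact hval j j
    · have h2 := hval j i
      rw [if_neg hji] at h2 ⊢
      rw [(hu j.castSucc).mul_left_eq_zero.mp h2, zero_mul]
  have hdet : IsUnit (top A).det := Matrix.isUnit_det_of_right_inverse hG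
  have hadj : (top A).adjugate = (top A).det • G := by
    calc (top A).adjugate = (top A).adjugate * (top A * G) := by rw [hG, Matrix.mul_one]
      _ = ((top A).adjugate * top A) * G := by rw [Matrix.mul_assoc]
      _ = (top A).det • G := by rw [Matrix.adjugate_mul, Matrix.smul_mul, Matrix.one_mul]
  have hadj' : ∀ l i, (top A).adjugate l i = (top A).det * (g i l * u i.castSucc) := by
    intro l i
    rw [hadj]
    rfl
  have hbb : ∀ i, IsUnit (bb A i) := by
    intro i
    have h1 : bb A i = (top A).det * u i.castSucc * ∑ l, g i l * A (Fin.last _) l := by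
      rw [bb, Finset.mul_sum]
      refine Finset.sum_congr rfl fun l _ => ?_
      rw [hadj']
      ring
    rw [h1]
    exact (hdet.mul (hu _)).mul (IsUnit.of_mul_eq_one _ (hlast i))
  refine ⟨hdet.mul ?_, fun i => ⟨(∏ k ∈ Finset.univ.erase i, bb A k) * ((top A).det * u i.castSucc), ?_, fun l => ?_⟩⟩
  · exact IsUnit.prod_univ_iff.mpr hbb
  · exact (IsUnit.prod_iff.mpr fun k _ => hbb k).mul (hdet.mul (hu _))
  · rw [cf, hadj']
    ring

end K817.NhdAlg
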