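import Groth.Agent.AgPol.K817.NhdAlg
import Groth.Agent.AgPol.K272.Pt
import Groth.Agent.AgPol.K652.QPVal

/-!
# Extending a normalised morphism to projective space from a geometric point to a neighbourhood
-/

set_option autoImplicit false
universe u

open CategoryTheory Limits AlgebraicGeometry TopologicalSpace

namespace K817.NhdCore

open K117.Ag K390.PnSec Groth.Agent.Fdesc.LocGen K652.QPRf K817.NhdAlg
open Groth.Agent.Grpsch.PicGrp hiding ev

variable {X Y Y' T T' W : Scheme.{u}}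

/-- Composition of pull backs. -/
theorem exists_comp (g : W ⟶ Y) (f : Y ⟶ X) (F : W ⟶ X) (h : g ≫ f = F) (L : X.Modules) :
    ∃ φ : (Scheme.Modules.pullback g).obj ((Scheme.Modules.pullback f).obj L) ≅ (Scheme.Modules.pullback F).obj L,
      ∀ s : Γ(L, ⊤), φ.hom.app ⊤ (pullTop g (pullTop f s)) = pullTop F s := by
  subst h
  refine ⟨(Scheme.Modules.pullbackComp g f).app L, fun s => ?_⟩
  have h1 := ps_comp (W := W) f (L := L) (U := ⊤) le_rfl g s le_rfl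
  rw [ps_top, ps_top] at h1
  exact h1

/-- Values at points of a scheme over `Y`. -/
theorem exists_val {N : Y.Modules} (P : T ⟶ Y) {ε : Γ((Scheme.Modules.pullback P).obj N, ⊤)} (hε : IsGen ε)
    (α : T' ⟶ T) (f : Y' ⟶ Y) (P' : T' ⟶ Y') (h : P' ≫ f = α ≫ P) :
    ∃ η : Γ((Scheme.Modules.pullback P').obj ((Scheme.Modules.pullback f).obj N), ⊤), IsGen η ∧
      ∀ (s : Γ(N, ⊤)) (a : Γ(T, ⊤)), pullTop P s = a • ε → pullTop P' (pullTop f s) = (α.appTop a) • η := by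
  obtain ⟨φ, hφ⟩ := exists_comp P' f (α ≫ P) h N
  obtain ⟨ψ, hψ⟩ := exists_comp α P (α ≫ P) rfl N
  refine ⟨φ.inv.app ⊤ (ψ.hom.app ⊤ (pullTop α ε)), ((hε.pullTop α).app ψ.hom).app φ.inv, fun s a hs => ?_⟩
  have h1 := hψ s
  rw [hs] at h1
  have h2 : pullTop α (a • ε) = (α.appTop a) • pullTop α ε := pullSec_smul α a ε
  rw [h2, Scheme.Modules.Hom.app_smul, ← hφ s] at h1
  have h3 := congrArg (φ.inv.app ⊤) h1
  rw [Scheme.Modules.Hom.app_smul] at h3
  have h4 : φ.inv.app ⊤ (φ.hom.app ⊤ (pullTop P' (pullTop f s))) = pullTop P' (pullTop f s) := by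
    have h5 : φ.hom ≫ φ.inv = 𝟙 _ := φ.hom_inv_id
    exact congr(($(h5).app ⊤) (pullTop P' (pullTop f s)))
  rw [h4] at h3
  exact h3.symm

theorem genLocus_unit_smul {M : X.Modules} {a : Γ(X, ⊤)} (ha : IsUnit a) (s : Γ(M, ⊤)) :
    CohB1.genLocus M (homOf (a • s)) = CohB1.genLocus M (homOf s) := by
  have key : ∀ (b : Γ(X, ⊤)) (r : Γ(M, ⊤)), IsUnit b →
      CohB1.genLocus M (homOf r) ≤ CohB1.genLocus M (homOf (b • r)) := by
    intro b r hb
    rw [Groth.Agent.Fdesc.LocGen.le_genLocus_iff, sec_homOf, res_smul]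
    have h1 : IsGen (res M (le_top : CohB1.genLocus M (homOf r) ≤ ⊤) r) := by
      have := (Groth.Agent.Fdesc.LocGen.le_genLocus_iff (homOf r) (CohB1.genLocus M (homOf r))).mp le_rfl
      rwa [sec_homOf] at this
    exact h1.unit_smul (hb.map _)
  refine le_antisymm ?_ (key a s ha)
  obtain ⟨v, rfl⟩ := ha
  have h1 := key (↑v⁻¹) ((↑v : Γ(X, ⊤)) • s) (Units.isUnit _)
  rwa [smul_smul, Units.inv_mul, one_smul] at h1

/-- A morphism given by sections with values `c • v`, `c` a unit, at a point. -/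
theorem isPt_of_val {m : ℕ} {r : Y ⟶ PZ.{u} m} {M : Y.Modules} {s : Fin (m + 1) → Γ(M, ⊤)} (h : GivenBy r M s)
    (P : T ⟶ Y) {η : Γ((Scheme.Modules.pullback P).obj M, ⊤)} (hη : IsGen η) {c : Γ(T, ⊤)} (hc : IsUnit c)
    (v : Fin (m + 1) → Γ(T, ⊤)) (hs : ∀ i, pullTop P (s i) = (v i * c) • η) : IsPt (P ≫ r) v := by
  rw [K272.Fr.isPt_comp_iff h]
  refine ⟨c • η, hη.unit_smul hc, fun i => ?_⟩
  rw [hs, mul_smul]

theorem isUnit_of_eq_top (r : Γ(X, ⊤)) (h : X.basicOpen r = ⊤) : IsUnit r := by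
  have h1 := RingedSpace.isUnit_res_basicOpen X.toRingedSpace r
  have h2 : ∀ (U : X.Opens) (hU : U = ⊤), IsUnit (ores (le_top : U ≤ ⊤) r) → IsUnit r := by
    intro U hU h3
    subst hU
    rwa [ores_refl] at h3
  exact h2 _ h h1

theorem isUnit_of_basicOpen {a : Γ(T, ⊤)} (α : T' ⟶ T) (h : ⊤ ≤ α ⁻¹ᵁ (T.basicOpen a)) : IsUnit (α.appTop a) := by
  have h1 : T'.basicOpen (α.appTop a) = ⊤ := by
    rw [eq_top_iff]
    refine h.trans ?_
    rw [Scheme.preimage_basicOpen_top]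
  exact isUnit_of_eq_top _ h1

/-- **The neighbourhood.** -/
theorem exists_nhd (q : Y ⟶ T) [IsProper q] {N : Y.Modules} (hN : PicF.IsInvertible N) {m : ℕ}
    (e : Fin (m + 1) → Γ(N, ⊤)) (P : Fin (m + 2) → (T ⟶ Y)) (hP : ∀ j, P j ≫ q = 𝟙 T)
    (ε : ∀ j, Γ((Scheme.Modules.pullback (P j)).obj N, ⊤)) (hε : ∀ j, IsGen (ε j))
    {Ω : Type u} [Field Ω] (t : Spec (CommRingCat.of Ω) ⟶ T) {Y₀ : Scheme.{u}} (f : Y₀ ⟶ Y)
    (q₀ : Y₀ ⟶ Spec (CommRingCat.of Ω)) (sq : IsPullback f q₀ q t) (hc : Coords q₀ (fun l => pullTop f (e l)))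
    (r₀ : Y₀ ⟶ PZ.{u} m) (s₀ : Fin (m + 1) → Γ((Scheme.Modules.pullback f).obj N, ⊤)) (hr₀ : GivenBy r₀ _ s₀)
    (P₀ : Fin (m + 2) → (Spec (CommRingCat.of Ω) ⟶ Y₀)) (hP₀ : ∀ j, P₀ j ≫ f = t ≫ P j)
    (hP₀' : ∀ j, P₀ j ≫ q₀ = 𝟙 _) (hstd : ∀ j, IsStd j (P₀ j ≫ r₀)) :
    ∃ V : T.Opens, Set.range t ⊆ V ∧ ∀ {T' Y' : Scheme.{u}} (α : T' ⟶ T) (f' : Y' ⟶ Y) (q' : Y' ⟶ T'),
      f' ≫ q = q' ≫ α → ⊤ ≤ α ⁻¹ᵁ V → ∃ r : Y' ⟶ PZ.{u} m, pull r (o1 m) = pull f' (mk N hN) ∧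
        ∀ j (P' : T' ⟶ Y'), P' ≫ f' = α ≫ P j → IsStd j (P' ≫ r) := by
  classical
  -- the matrix of values
  choose A hA using fun j l => (hε j).exists_eq (pullTop (P j) (e l))
  let A' : Matrix (Fin (m + 2)) (Fin (m + 1)) Γ(T, ⊤) := A
  have hA' : ∀ j l, pullTop (P j) (e l) = A' j l • ε j := hA
  let s : Fin (m + 1) → Γ(N, ⊤) := fun i => ∑ l, (q.appTop (cf A' i l)) • e l
  have hs : ∀ j i, pullTop (P j) (s i) = (∑ l, cf A' i l * A' j l) • ε j := by
    intro j i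
    rw [pullTop_sum_smul, Finset.sum_smul]
    refine Finset.sum_congr rfl fun l _ => ?_
    have h1 : (P j).appTop (q.appTop (cf A' i l)) = cf A' i l := by
      have h2 : q.appTop ≫ (P j).appTop = 𝟙 _ := by
        rw [← Scheme.Hom.comp_appTop, hP j, Scheme.Hom.id_appTop]
      exact congr($(h2) (cf A' i l))
    rw [h1, hA', smul_smul]
  -- the point `t`
  let φ : Γ(T, ⊤) →+* Γ(Spec (CommRingCat.of Ω), ⊤) := t.appTop.hom
  choose g hg hg' using fun i => hc (s₀ i)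
  choose η hη hη' using fun j => exists_val (P j) (hε j) t f (P₀ j) (hP₀ j)
  have hval : ∀ j i, pullTop (P₀ j) (s₀ i) = (∑ l, g i l * φ (A' j l)) • η j := by
    intro j i
    rw [hg i, pullTop_sum_smul, Finset.sum_smul]
    refine Finset.sum_congr rfl fun l _ => ?_
    have h1 : (P₀ j).appTop (q₀.appTop (g i l)) = g i l := by
      have h2 : q₀.appTop ≫ (P₀ j).appTop = 𝟙 _ := by
        rw [← Scheme.Hom.comp_appTop, hP₀' j, Scheme.Hom.id_appTop]
      exact congr($(h2) (g i l))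
    rw [h1, hη' j _ _ (hA' j l), smul_smul]
  have hu : ∀ j, ∃ c : Γ(Spec (CommRingCat.of Ω), ⊤), IsUnit c ∧
      ∀ i, stdv _ m j i = (∑ l, g i l * (A'.map φ) j l) * c := by
    intro j
    obtain ⟨e', he', h1⟩ := (K272.Fr.isPt_comp_iff hr₀ (P₀ j) _).mp (hstd j)
    obtain ⟨c, hc1, hc2⟩ := he'.exists_unit (hη j)
    refine ⟨c, hc1, fun i => ?_⟩
    have h2 := h1 i
    rw [hval, hc2, smul_smul] at h2
    exact (he'.ext h2).symm
  choose c hc1 hc2 using hu
  obtain ⟨hdd, hw⟩ := point (A'.map φ) g c hc1 hc2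
  choose w hw1 hw2 using hw
  rw [dd_map] at hdd
  -- the sections at `t`
  have hst : ∀ i, pullTop f (s i) = (q₀.appTop (w i)) • s₀ i := by
    intro i
    have h1 : ∀ l, f.appTop (q.appTop (cf A' i l)) = q₀.appTop (φ (cf A' i l)) := by
      intro l
      have h2 : q.appTop ≫ f.appTop = t.appTop ≫ q₀.appTop := by
        rw [← Scheme.Hom.comp_appTop, ← Scheme.Hom.comp_appTop, sq.w]
      exact congr($(h2) (cf A' i l))
    have h4 : q₀.appTop (w i) • s₀ i = ∑ l, (q₀.appTop (w i * g i l)) • pullTop f (e l) := by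
      conv_lhs => rw [hg i, Finset.smul_sum]
      refine Finset.sum_congr rfl fun l _ => ?_
      rw [smul_smul, ← map_mul]
    rw [h4]
    refine (pullTop_sum_smul f _ _).trans (Finset.sum_congr rfl fun l _ => ?_)
    rw [h1 l, ← cf_map A' φ, hw2]
  -- the neighbourhood
  let G : Y.Opens := ⨆ i, CohB1.genLocus N (homOf (s i))
  have hG : f ⁻¹ᵁ G = ⊤ := by
    rw [eq_top_iff, ← hr₀.iSup_genLocus]
    refine iSup_le fun i => ?_
    have h1 : CohB1.genLocus _ (homOf (s₀ i)) = f ⁻¹ᵁ (CohB1.genLocus N (homOf (s i))) := by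
      rw [← genLocus_pullTop f hN, hst i, genLocus_unit_smul ((hw1 i).map _)]
    rw [h1]
    exact f.preimage_mono (le_iSup (fun i => CohB1.genLocus N (homOf (s i))) i)
  have hclosed : IsClosed (q '' (G : Set Y)ᶜ) := q.isClosedMap _ G.isOpen.isClosed_compl
  let V₁ : T.Opens := ⟨(q '' (G : Set Y)ᶜ)ᶜ, hclosed.isOpen_compl⟩
  refine ⟨T.basicOpen (dd A') ⊓ V₁, ?_, ?_⟩
  · rintro _ ⟨x, rfl⟩
    refine ⟨?_, ?_⟩
    · have h1 : x ∈ (Spec (CommRingCat.of Ω)).basicOpen (t.appTop (dd A')) := by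
        rw [Scheme.basicOpen_of_isUnit _ hdd]
        trivial
      rw [← Scheme.preimage_basicOpen_top] at h1
      exact h1
    · rintro ⟨y, hy, hyx⟩
      obtain ⟨y₀, hy₀, -⟩ := Scheme.exists_preimage_of_isPullback sq y x hyx
      have h1 : y₀ ∈ f ⁻¹ᵁ G := by rw [hG]; trivial
      exact hy (hy₀ ▸ h1)
  · intro T' Y' α f' q' hf' hα
    have hα1 : ⊤ ≤ α ⁻¹ᵁ (T.basicOpen (dd A')) := hα.trans (α.preimage_mono inf_le_left)
    have hα2 : ⊤ ≤ α ⁻¹ᵁ V₁ := hα.trans (α.preimage_mono inf_le_right)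
    have hcov : ⨆ i, CohB1.genLocus _ (homOf (pullTop f' (s i))) = ⊤ := by
      rw [eq_top_iff]
      intro y _
      have h1 : f' y ∈ G := by
        by_contra hy
        have h2 : α (q' y) ∈ V₁ := hα2 trivial
        refine h2 ⟨f' y, hy, ?_⟩
        rw [← Scheme.Hom.comp_apply, hf', Scheme.Hom.comp_apply]
      obtain ⟨i, hi⟩ := Opens.mem_iSup.mp h1
      refine Opens.mem_iSup.mpr ⟨i, ?_⟩
      rw [genLocus_pullTop f' hN]
      exact hi
    obtain ⟨r, hr⟩ := exists_givenBy' _ hcov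
    have hu : IsUnit (α.appTop (dd A')) := isUnit_of_basicOpen α hα1
    have hu' : IsUnit (α.appTop (top A').det * α.appTop (∏ k, bb A' k)) := by
      rw [← map_mul]
      exact hu
    have hdet : IsUnit (α.appTop (top A').det) := isUnit_of_mul_isUnit_left hu'
    have hprod : IsUnit (α.appTop (∏ k, bb A' k)) := isUnit_of_mul_isUnit_right hu'
    have hbb : ∀ i, IsUnit (α.appTop (∏ k ∈ Finset.univ.erase i, bb A' k)) := by
      intro i
      rw [← Finset.prod_erase_mul _ _ (Finset.mem_univ i), map_mul] at hprod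
      exact isUnit_of_mul_isUnit_left hprod
    have key : ∀ (j : Fin (m + 2)) (P' : T' ⟶ Y'), P' ≫ f' = α ≫ P j → IsStd j (P' ≫ r) := by
      intro j P' hP'
      obtain ⟨η', hη'1, hη'2⟩ := exists_val (P j) (hε j) α f' P' hP'
      have hv : ∀ i, pullTop P' (pullTop f' (s i)) = (α.appTop (∑ l, cf A' i l * A' j l)) • η' :=
        fun i => hη'2 _ _ (hs j i)
      have h1 : (∃ j' : Fin (m + 1), j = j'.castSucc) ∨ j = Fin.last (m + 1) := by
        refine Fin.lastCases (Or.inr rfl) (fun j' => Or.inl ⟨j', rfl⟩) j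
      rcases h1 with ⟨j', rfl⟩ | rfl
      · refine isPt_of_val hr P' hη'1 ((hbb j').mul hdet) _ fun i => ?_
        rw [hv, val_castSucc, map_mul]
        congr 1
        have h2 : ((j'.castSucc : Fin (m + 2)) : ℕ) < m + 1 := j'.2
        rw [stdv, dif_pos h2]
        change _ = (Pi.single j' (1 : Γ(T', ⊤)) : Fin (m + 1) → _) i * _
        by_cases hij : j' = i
        · subst hij
          rw [if_pos rfl, Pi.single_eq_same, one_mul]
        · rw [if_neg hij, map_zero, Pi.single_eq_of_ne (Ne.symm hij), mul_zero, zero_mul]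
      · refine isPt_of_val hr P' hη'1 hprod _ fun i => ?_
        rw [hv, val_last]
        congr 1
        have h2 : ¬ ((Fin.last (m + 1) : Fin (m + 2)) : ℕ) < m + 1 := by simp
        rw [stdv, dif_neg h2, one_mul]
    refine ⟨r, ?_, key⟩
    obtain ⟨τ, -⟩ := hr
    have h1 : pull r (o1 m) = mk _ (isInvertible_pullback f' hN) := by
      rw [o1, pull_mk r (isInvertible_O1 m Z.{u}), mk_eq_iff]
      exact ⟨τ⟩
    rw [h1, pull_mk]

end K817.NhdCore
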